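import Mathlib
import Groth.Prelude.Def_Brnch
import Groth.Prelude.Def_CAlg2

/-!
# One branch means unibranch
-/

set_option autoImplicit false

universe u

namespace Groth.Agent.BranchLib

open CAlg2

theorem minimalPrimes_eq_singleton {A : Type u} [CommRing A] [IsDomain (red A)] :
    minimalPrimes A = {nilradical A} := by
  haveI hp : (nilradical A).IsPrime := (Ideal.Quotient.isDomain_iff_prime _).mp inferInstance
  ext q
  constructor
  · intro hq
    haveI := hq.1.1
    exact le_antisymm (hq.2 ⟨hp, bot_le⟩ (nilradical_le_prime q)) (nilradical_le_prime q)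
  · rintro rfl
    exact ⟨⟨hp, bot_le⟩, fun q hq _ => haveI := hq.1; nilradical_le_prime q⟩

theorem isDomain_of_isLocalRing_integralClosure {R : Type u} [CommRing R] [IsReduced R]
    (hfin : (minimalPrimes R).Finite) [hloc : IsLocalRing (integralClosure R (FractionRing R))] : IsDomain R := by
  classical
  haveI : Nontrivial R := by
    by_contra h
    rw [not_nontrivial_iff_subsingleton] at h
    haveI : Subsingleton (FractionRing R) := subsingleton_of_zero_eq_one
      (by rw [← map_zero (algebraMap R (FractionRing R)), ← map_one (algebraMap R (FractionRing R)), Subsingleton.elim (0 : R) 1])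
    exact not_subsingleton (integralClosure R (FractionRing R)) inferInstance
  let S := hfin.toFinset
  have hS : ∀ η : S, (η : Ideal R).IsPrime := fun η => ((Set.Finite.mem_toFinset _).mp η.2).1.1
  have hu : ∀ η : S, ∃ u : R, u ∉ (η : Ideal R) ∧ ∀ η' : S, η' ≠ η → u ∈ (η' : Ideal R) := by
    intro η
    have hnot : ¬ (Finset.univ.erase η).inf (fun η' : S => (η' : Ideal R)) ≤ (η : Ideal R) := by
      rw [Ideal.IsPrime.inf_le' (hS η)]
      rintro ⟨η', hη', hle⟩
      refine (Finset.mem_erase.mp hη').1 (Subtype.ext (le_antisymm hle ?_))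
      exact ((Set.Finite.mem_toFinset _).mp η.2).2 ⟨hS η', bot_le⟩ hle
    obtain ⟨u, hu, hun⟩ := SetLike.not_le_iff_exists.mp hnot
    exact ⟨u, hun, fun η' h => Submodule.mem_finsetInf.mp hu η' (Finset.mem_erase.mpr ⟨h, Finset.mem_univ _⟩)⟩
  choose u hu hu' using hu
  have hzero : ∀ a : R, (∀ η : S, a ∈ (η : Ideal R)) → a = 0 := fun a ha => by
    refine IsNilpotent.eq_zero (nilpotent_iff_mem_prime.mpr fun q hq => ?_)
    obtain ⟨η, hη, hηq⟩ := Ideal.exists_minimalPrimes_le (I := (⊥ : Ideal R)) (J := q) bot_le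
    exact hηq (ha ⟨η, (Set.Finite.mem_toFinset _).mpr hη⟩)
  obtain ⟨η₀, hη₀⟩ := Ideal.nonempty_minimalPrimes (I := (⊥ : Ideal R)) bot_ne_top
  let η : S := ⟨η₀, (Set.Finite.mem_toFinset _).mpr hη₀⟩
  suffices h1 : ∀ η' : S, η' = η by
    haveI : (⊥ : Ideal R).IsPrime := by
      have : η₀ = ⊥ := eq_bot_iff.mpr fun a ha => (Submodule.mem_bot R).mpr (hzero a fun η' => by rw [h1 η']; exact ha)
      exact this ▸ hS η
    exact (RingEquiv.quotientBot R).symm.toMulEquiv.isDomain _
  intro η'
  by_contra hne
  let c := u η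
  let d := ∑ x : S, u x
  have hmul : ∀ x : S, x ≠ η → c * u x = 0 := fun x hx => hzero _ fun y => by
    by_cases hy : y = η
    · exact Ideal.mul_mem_left _ _ (hu' x y (fun h => hx (h.symm.trans hy)))
    · exact Ideal.mul_mem_right _ _ (hu' η y hy)
  have hcd : c * c = c * d := by
    rw [Finset.mul_sum, Finset.sum_eq_single η (fun x _ hx => hmul x hx) (fun h => absurd (Finset.mem_univ η) h)]
  have hd : ∀ x : S, d ∉ (x : Ideal R) := fun x h => by
    rw [show d = _ from (Finset.add_sum_erase _ _ (Finset.mem_univ x)).symm] at h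
    exact hu x ((Ideal.add_mem_iff_left _ (Ideal.sum_mem _ fun y hy => hu' y x (Finset.mem_erase.mp hy).1.symm)).mp h)
  have hdnz : d ∈ nonZeroDivisors R := mem_nonZeroDivisors_iff_right.mpr fun a ha => hzero a fun x =>
    ((hS x).mem_or_mem (by rw [ha]; exact zero_mem _)).resolve_right (hd x)
  let z : FractionRing R := IsLocalization.mk' _ c ⟨d, hdnz⟩
  have hz : z * z = z := by
    rw [← IsLocalization.mk'_mul, IsLocalization.mk'_eq_iff_eq, Submonoid.coe_mul]
    show algebraMap R _ (d * (c * c)) = algebraMap R _ (d * d * c)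
    rw [hcd]; ring_nf
  have hzi : IsIntegral R z := ⟨Polynomial.X ^ 2 - Polynomial.X, Polynomial.monic_X_pow_sub (by simp), by
    simp [pow_two, hz]⟩
  rcases (IsLocalRing.isUnit_or_isUnit_one_sub_self (⟨z, hzi⟩ : integralClosure R (FractionRing R))) with h | h
  · have h1 : z = 1 := by
      have := (h.map (integralClosure R (FractionRing R)).val)
      exact IsUnit.mul_left_cancel this (hz.trans (mul_one z).symm)
    rw [IsLocalization.mk'_eq_iff_eq_mul, one_mul] at h1
    have : c = d := IsFractionRing.injective R _ h1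
    exact hd η' (this ▸ hu' η η' hne)
  · have h1 : z = 0 := by
      have h' := (h.map (integralClosure R (FractionRing R)).val)
      have h2 : (1 - z) * z = 0 := by rw [sub_mul, one_mul, hz, sub_self]
      exact h'.mul_right_eq_zero.mp h2
    rw [IsLocalization.mk'_eq_zero_iff] at h1
    obtain ⟨m, hm⟩ := h1
    have : c = 0 := mem_nonZeroDivisors_iff_right.mp m.2 c (by rw [mul_comm]; exact hm)
    exact hu η (by rw [show u η = c from rfl, this]; exact zero_mem _)

theorem finite_minimalPrimes_red {A : Type u} [CommRing A] (h : (minimalPrimes A).Finite) :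
    (minimalPrimes (red A)).Finite := by
  refine (h.subset ?_).of_finite_image (Ideal.comap_injective_of_surjective _ Ideal.Quotient.mk_surjective).injOn
  rintro _ ⟨q, hq, rfl⟩
  haveI := hq.1.1
  refine ⟨⟨Ideal.comap_isPrime _ q, bot_le⟩, fun r hr hrq => ?_⟩
  haveI := hr.1
  have h1 : (nilradical A) ≤ r := nilradical_le_prime r
  have h2 : (r.map (Ideal.Quotient.mk (nilradical A))).comap (Ideal.Quotient.mk (nilradical A)) = r := by
    rw [Ideal.comap_map_of_surjective _ Ideal.Quotient.mk_surjective, ← RingHom.ker_eq_comap_bot, Ideal.mk_ker,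
      sup_eq_left.mpr h1]
  haveI : (r.map (Ideal.Quotient.mk (nilradical A))).IsPrime :=
    Ideal.map_isPrime_of_surjective Ideal.Quotient.mk_surjective (by rwa [Ideal.mk_ker])
  have h3 := hq.2 (y := r.map (Ideal.Quotient.mk (nilradical A))) ⟨inferInstance, bot_le⟩ (by
    rw [Ideal.map_le_iff_le_comap]; exact hrq)
  exact (Ideal.comap_mono h3).trans h2.le

theorem unique_maximalSpectrum {R : Type u} [CommRing R] [IsLocalRing R] :
    Subsingleton (MaximalSpectrum R) :=
  ⟨fun m m' => MaximalSpectrum.ext ((IsLocalRing.eq_maximalIdeal m.isMaximal).trans (IsLocalRing.eq_maximalIdeal m'.isMaximal).symm)⟩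

theorem numBranches_eq_one_iff (A : Type u) [CommRing A] [IsLocalRing A] :
    Brnch.numBranches A = 1 ↔ IsUnibranch A := by
  classical
  constructor
  · intro h
    unfold Brnch.numBranches at h
    split_ifs at h with hf
    · rw [ENat.card_eq_one_iff_unique] at h
      obtain ⟨hu⟩ := h
      let m := hu.default
      have hsub : Subsingleton (MaximalSpectrum (normRed A)) := Unique.instSubsingleton
      haveI : IsLocalRing (normRed A) := IsLocalRing.of_unique_max_ideal ⟨m.asIdeal, m.isMaximal, fun J hJ =>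
        congrArg MaximalSpectrum.asIdeal (Subsingleton.elim (⟨J, hJ⟩ : MaximalSpectrum _) m)⟩
      haveI : IsReduced (red A) := (Ideal.isRadical_iff_quotient_reduced _).mp (Ideal.radical_isRadical _)
      exact ⟨isDomain_of_isLocalRing_integralClosure (finite_minimalPrimes_red hf), inferInstance⟩
    · simp at h
  · rintro ⟨hd, hl⟩
    unfold Brnch.numBranches
    rw [if_pos (by rw [minimalPrimes_eq_singleton]; exact Set.finite_singleton _), ENat.card_eq_one_iff_unique]
    haveI : Subsingleton (MaximalSpectrum (normRed A)) := unique_maximalSpectrum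
    exact ⟨uniqueOfSubsingleton ⟨IsLocalRing.maximalIdeal _, inferInstance⟩⟩

theorem emb_facts {A : Type u} [CommRing A] [IsLocalRing A] (m' : MaximalSpectrum (normRed A)) :
    Nonempty (Brnch.Emb A m') ∧ (Subsingleton (Brnch.Emb A m') ↔
      ∀ x : normRed A ⧸ m'.asIdeal, ∃ n : ℕ, x ^ ringExpChar (normRed A ⧸ m'.asIdeal) ^ n ∈ (Brnch.toResidue A m').range) := by
  haveI := m'.isMaximal
  letI : Field (normRed A ⧸ m'.asIdeal) := Ideal.Quotient.field _
  let f := Brnch.toResidue A m'
  have hint : f.IsIntegral := by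
    have h1 : (algebraMap (red A) (normRed A)).IsIntegral := algebraMap_isIntegral_iff.mpr inferInstance
    exact RingHom.IsIntegral.trans _ _ (RingHom.IsIntegral.trans _ _
      (RingHom.isIntegral_of_surjective _ Ideal.Quotient.mk_surjective) h1)
      (RingHom.isIntegral_of_surjective _ Ideal.Quotient.mk_surjective)
  have hker : RingHom.ker f = IsLocalRing.maximalIdeal A := by
    refine IsLocalRing.eq_maximalIdeal ?_
    letI : Algebra A (normRed A ⧸ m'.asIdeal) := f.toAlgebra
    haveI : Algebra.IsIntegral A (normRed A ⧸ m'.asIdeal) := ⟨hint⟩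
    have h := Ideal.isMaximal_comap_of_isIntegral_of_isMaximal (R := A) (⊥ : Ideal (normRed A ⧸ m'.asIdeal))
    rwa [← RingHom.ker_eq_comap_bot] at h
  let κ := IsLocalRing.ResidueField A
  let i : κ →+* normRed A ⧸ m'.asIdeal :=
    Ideal.Quotient.lift _ f fun a ha => RingHom.mem_ker.mp (hker.ge ha)
  letI : Algebra κ (normRed A ⧸ m'.asIdeal) := i.toAlgebra
  haveI : Algebra.IsIntegral κ (normRed A ⧸ m'.asIdeal) :=
    ⟨RingHom.IsIntegral.tower_top (IsLocalRing.residue A) i (by exact hint)⟩
  haveI : Algebra.IsAlgebraic κ (normRed A ⧸ m'.asIdeal) := Algebra.IsIntegral.isAlgebraic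
  let L := normRed A ⧸ m'.asIdeal
  let e : Brnch.Emb A m' ≃ (L →ₐ[κ] AlgebraicClosure κ) :=
    { toFun := fun σ => { σ.1 with
        commutes' := fun c => by
          obtain ⟨a, rfl⟩ := IsLocalRing.residue_surjective c
          exact RingHom.congr_fun σ.2 a }
      invFun := fun τ => ⟨τ.toRingHom, RingHom.ext fun a => τ.commutes (IsLocalRing.residue A a)⟩
      left_inv := fun σ => rfl
      right_inv := fun τ => rfl }
  refine ⟨⟨e.symm IsAlgClosed.lift⟩, ?_⟩
  rw [e.subsingleton_congr, ← (Field.embEquivOfIsAlgClosed κ L (AlgebraicClosure κ)).subsingleton_congr,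
    ← isPurelyInseparable_iff_subsingleton_emb, isPurelyInseparable_iff_pow_mem κ (ringExpChar κ)]
  haveI := ringExpChar.expChar κ
  have hq : ringExpChar L = ringExpChar κ := by
    haveI : ExpChar L (ringExpChar κ) := expChar_of_injective_ringHom i.injective _
    exact ringExpChar.eq L _
  have hr : (algebraMap κ L).range = f.range := by
    ext x
    constructor
    · rintro ⟨c, rfl⟩
      obtain ⟨a, rfl⟩ := IsLocalRing.residue_surjective c
      exact ⟨a, rfl⟩
    · rintro ⟨a, rfl⟩
      exact ⟨IsLocalRing.residue A a, rfl⟩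
  rw [hr]
  exact hq ▸ Iff.rfl

theorem numGeomBranches_eq_one_iff (A : Type u) [CommRing A] [IsLocalRing A] :
    Brnch.numGeomBranches A = 1 ↔ IsGeomUnibranch A := by
  classical
  constructor
  · intro h
    unfold Brnch.numGeomBranches at h
    split_ifs at h with hf
    · rw [ENat.card_eq_one_iff_unique] at h
      obtain ⟨hu⟩ := h
      obtain ⟨m, σ⟩ := hu.default
      have hsub : Subsingleton (Σ m' : MaximalSpectrum (normRed A), Brnch.Emb A m') := Unique.instSubsingleton
      haveI : IsLocalRing (normRed A) := IsLocalRing.of_unique_max_ideal ⟨m.asIdeal, m.isMaximal, fun J hJ => by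
        obtain ⟨τ⟩ := (emb_facts (⟨J, hJ⟩ : MaximalSpectrum _)).1
        exact congrArg (fun p : Σ m' : MaximalSpectrum (normRed A), Brnch.Emb A m' => p.1.asIdeal)
          (hsub.elim ⟨⟨J, hJ⟩, τ⟩ ⟨m, σ⟩)⟩
      haveI : IsReduced (red A) := (Ideal.isRadical_iff_quotient_reduced _).mp (Ideal.radical_isRadical _)
      refine ⟨⟨isDomain_of_isLocalRing_integralClosure (finite_minimalPrimes_red hf), inferInstance⟩, fun J hJ => ?_⟩
      refine (emb_facts (⟨J, hJ⟩ : MaximalSpectrum _)).2.mp ⟨fun a b => ?_⟩
      exact eq_of_heq (Sigma.mk.inj (hsub.elim ⟨_, a⟩ ⟨_, b⟩)).2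
    · simp at h
  · rintro ⟨⟨hd, hl⟩, hp⟩
    unfold Brnch.numGeomBranches
    rw [if_pos (by rw [minimalPrimes_eq_singleton]; exact Set.finite_singleton _), ENat.card_eq_one_iff_unique]
    haveI : Subsingleton (MaximalSpectrum (normRed A)) := unique_maximalSpectrum
    haveI : Subsingleton (Σ m' : MaximalSpectrum (normRed A), Brnch.Emb A m') := ⟨fun ⟨m, a⟩ ⟨n, b⟩ => by
      obtain rfl : m = n := Subsingleton.elim _ _
      haveI := m.isMaximal
      haveI : Subsingleton (Brnch.Emb A m) := (emb_facts m).2.mpr (hp m.asIdeal)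
      rw [Subsingleton.elim a b]⟩
    let m : MaximalSpectrum (normRed A) := ⟨IsLocalRing.maximalIdeal _, inferInstance⟩
    obtain ⟨σ⟩ := (emb_facts m).1
    exact ⟨uniqueOfSubsingleton ⟨m, σ⟩⟩

end Groth.Agent.BranchLib
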